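import Cfsg.Agent.H326.QS.VP
import Cfsg.Agent.Nodes.LeviDec

/-!
# Row `²E₆(2)` of `QS`, parabolic `P₄ = 2^(8+16):Ω₈⁻(2)`: the chief factor `V₄/V2 = 2^16` is irreducible (helper374)

`R` a root group datum of type `F₄` (nodes `0, 1` long), `J = {0, 1, 2}`, `V = VJ`, `V2` the layer of the roots with coordinate 2 at
the node 3.  `irr` : a subgroup `V2 ≤ M ≤ V` normalised by `PJ` is `V2` or `V`.
-/

set_option autoImplicit false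
set_option linter.unusedSectionVars false

namespace Cfsg.Agent.H374.QF.Irr

open CoxeterSystem Cfsg.Agent.ChevalleyStructure.CoxeterGeom Cfsg.Agent.Tits.Roots Cfsg.Agent.Tits.Core
  Cfsg.Agent.Tits.RootComb Cfsg.Agent.Nodes.Reps Cfsg.Agent.Nodes.BNOf Cfsg.Agent.Nodes.Coroot
  Cfsg.Agent.Nodes.StabComb Cfsg.Agent.Nodes.Bruhat Cfsg.Agent.Nodes.OppDec Cfsg.Agent.Nodes.LeviDec
  Cfsg.Agent.KFacts.RgdSL Cfsg.Agent.KFacts.RgdTI Cfsg.Agent.Nodes.RGDTwE6 Cfsg.Agent.KFacts.TwESix.Comb Cfsg.Agent.KFacts.TwESix.Btw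
  Cfsg.Agent.H326.QS.VP
open scoped commutatorElement

section abstract

variable {Y : Type*} [Group Y] {V V2 : Subgroup Y}

/-- the elements commuting with `b` modulo `V2` -/
def commS (hn : ∀ a ∈ V, ∀ d ∈ V2, a * d * a⁻¹ ∈ V2) (b : Y) : Subgroup Y where
  carrier := {a | a ∈ V ∧ a * b * a⁻¹ * b⁻¹ ∈ V2}
  one_mem' := ⟨one_mem _, by simp⟩
  mul_mem' := by
    rintro a a' ⟨ha, h1⟩ ⟨ha', h2⟩
    refine ⟨mul_mem ha ha', ?_⟩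
    have e : a * a' * b * (a * a')⁻¹ * b⁻¹ = (a * (a' * b * a'⁻¹ * b⁻¹) * a⁻¹) * (a * b * a⁻¹ * b⁻¹) := by group
    rw [e]
    exact mul_mem (hn a ha _ h2) h1
  inv_mem' := by
    rintro a ⟨ha, h1⟩
    refine ⟨inv_mem ha, ?_⟩
    have e : a⁻¹ * b * a⁻¹⁻¹ * b⁻¹ = a⁻¹ * (a * b * a⁻¹ * b⁻¹)⁻¹ * a⁻¹⁻¹ := by group
    rw [e]
    exact hn _ (inv_mem ha) _ (inv_mem h1)

/-- the elements `v` with `[u, v] ≡ m v m⁻¹` modulo `V2` -/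
def congrS (hc : ∀ a ∈ V, ∀ b ∈ V, a * b * a⁻¹ * b⁻¹ ∈ V2) (hn : ∀ a ∈ V, ∀ d ∈ V2, a * d * a⁻¹ ∈ V2) (u m : Y)
    (hu : ∀ v ∈ V, u * v * u⁻¹ ∈ V) (hm : ∀ v ∈ V, m * v * m⁻¹ ∈ V) : Subgroup Y where
  carrier := {v | v ∈ V ∧ (u * v * u⁻¹ * v⁻¹) * (m * v * m⁻¹)⁻¹ ∈ V2}
  one_mem' := ⟨one_mem _, by simp⟩
  mul_mem' := by
    rintro v w ⟨hv, h1⟩ ⟨hw, h2⟩
    refine ⟨mul_mem hv hw, ?_⟩
    have ha : u * v * u⁻¹ ∈ V := hu v hv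
    have hcw : u * w * u⁻¹ * w⁻¹ ∈ V := mul_mem (hu w hw) (inv_mem hw)
    have e : (u * (v * w) * u⁻¹ * (v * w)⁻¹) * (m * (v * w) * m⁻¹)⁻¹ =
        ((u * v * u⁻¹) * ((u * w * u⁻¹ * w⁻¹) * v⁻¹ * (u * w * u⁻¹ * w⁻¹)⁻¹ * (v⁻¹)⁻¹) * (u * v * u⁻¹)⁻¹) *
        ((u * v * u⁻¹ * v⁻¹) * ((u * w * u⁻¹ * w⁻¹) * (m * w * m⁻¹)⁻¹) * (u * v * u⁻¹ * v⁻¹)⁻¹) *
        ((u * v * u⁻¹ * v⁻¹) * (m * v * m⁻¹)⁻¹) := by group
    rw [e]
    exact mul_mem (mul_mem (hn _ ha _ (hc _ hcw _ (inv_mem hv))) (hn _ (mul_mem ha (inv_mem hv)) _ h2)) h1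
  inv_mem' := by
    rintro v ⟨hv, h1⟩
    refine ⟨inv_mem hv, ?_⟩
    have ha : u * v * u⁻¹ ∈ V := hu v hv
    have e : (u * v⁻¹ * u⁻¹ * v⁻¹⁻¹) * (m * v⁻¹ * m⁻¹)⁻¹ =
        ((u * v * u⁻¹)⁻¹ * v * (u * v * u⁻¹)⁻¹⁻¹ * v⁻¹) *
        ((v * (u * v * u⁻¹)⁻¹) * ((u * v * u⁻¹ * v⁻¹) * (m * v * m⁻¹)⁻¹)⁻¹ * (v * (u * v * u⁻¹)⁻¹)⁻¹) := by
      group
    rw [e]
    exact mul_mem (hc _ (inv_mem ha) _ hv) (hn _ (mul_mem hv (inv_mem ha)) _ (inv_mem h1))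

/-- the elements `v` with `[u, v] ∈ V2` -/
def actS (hn : ∀ a ∈ V, ∀ d ∈ V2, a * d * a⁻¹ ∈ V2) (u : Y) : Subgroup Y where
  carrier := {v | v ∈ V ∧ u * v * u⁻¹ * v⁻¹ ∈ V2}
  one_mem' := ⟨one_mem _, by simp⟩
  mul_mem' := by
    rintro v w ⟨hv, h1⟩ ⟨hw, h2⟩
    refine ⟨mul_mem hv hw, ?_⟩
    have e : u * (v * w) * u⁻¹ * (v * w)⁻¹ = (u * v * u⁻¹ * v⁻¹) * (v * (u * w * u⁻¹ * w⁻¹) * v⁻¹) := by group
    rw [e]
    exact mul_mem h1 (hn v hv _ h2)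
  inv_mem' := by
    rintro v ⟨hv, h1⟩
    refine ⟨inv_mem hv, ?_⟩
    have e : u * v⁻¹ * u⁻¹ * v⁻¹⁻¹ = v⁻¹ * (u * v * u⁻¹ * v⁻¹)⁻¹ * v⁻¹⁻¹ := by group
    rw [e]
    exact hn _ (inv_mem hv) _ (inv_mem h1)

end abstract

/-! ### The root system -/

/-- the set `J` -/
abbrev J : Set (Fin 4) := {k | k ≠ 3}

section

variable {W Y : Type*} [Group W] [Group Y] {cs : CoxeterSystem CoxeterMatrix.F₄ W} {p : ℕ} {T : Subgroup Y}
  {n : Fin 4 → Y} {X : (Fin 4 → ℤ) → Subgroup Y}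

theorem NotJ_eq : NotJ cs isCartan J = Q (fun x => 1 ≤ x 3) := by
  ext x
  constructor
  · rintro ⟨hx, -, k, hk, hk0⟩
    have hk : k = 3 := by
      by_contra h
      exact hk h
    subst hk
    exact ⟨(mem_rts cs).1 hx, hk0⟩
  · rintro ⟨hx, h0⟩
    refine ⟨(mem_rts cs).2 hx, ?_, 3, by simp [J], h0⟩
    have h1 : ∀ x ∈ rts, 1 ≤ x 3 → ∀ k, 0 ≤ x k := by decide +kernel
    exact fun k => h1 x hx h0 k

theorem RootsJ_eq : RootsJ cs isCartan J = Q (fun x => x 3 = 0) := by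
  ext x
  constructor
  · rintro ⟨hx, h1⟩
    exact ⟨(mem_rts cs).1 hx, h1 3 (by simp [J])⟩
  · rintro ⟨hx, h0⟩
    refine ⟨(mem_rts cs).2 hx, fun k hk => ?_⟩
    have hk : k = 3 := by
      by_contra h
      exact hk h
    subst hk
    exact h0

/-- the layer -/
abbrev V2 (X : (Fin 4 → ℤ) → Subgroup Y) : Subgroup Y := RGD.Sup X (Q (fun x => x 3 = 2))

variable (R : RGD cs isCartan p T n X)

include R

theorem VJ_eq : VJ cs isCartan X J = RGD.Sup X (Q (fun x => 1 ≤ x 3)) := by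
  unfold VJ; rw [NotJ_eq]

theorem X_le {x : Fin 4 → ℤ} (hx : x ∈ rts) (h0 : 0 ≤ x 3) : X x ≤ PJ cs isCartan T X J := by
  rcases h0.lt_or_eq with h | h
  · refine le_trans ?_ VJ_le_PJ
    rw [VJ_eq R]
    exact RGD.le_Sup (S := Q fun x => 1 ≤ x 3) ⟨hx, h⟩
  · refine le_trans (X_le_LJ ?_) LJ_le_PJ
    rw [RootsJ_eq]
    exact ⟨hx, h.symm⟩

theorem comm_of {x y : Fin 4 → ℤ} (hx : x ∈ rts) (hy : y ∈ rts) (h1 : x ≠ y) (h2 : x ≠ -y) {P : (Fin 4 → ℤ) → Prop}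
    (h3 : ∀ z ∈ rts, bt x y z → P z) {a b : Y} (ha : a ∈ X x) (hb : b ∈ X y) :
    a * b * a⁻¹ * b⁻¹ ∈ RGD.Sup X (Q P) := by
  have h4 := R.comm x y ((mem_rts cs).2 hx) ((mem_rts cs).2 hy) h1 h2 a ha b hb
  have h5 : btw cs isCartan X x y ≤ RGD.Sup X (Q P) := by
    unfold Cfsg.Agent.Nodes.Reps.btw
    refine iSup_le ?_
    rintro ⟨w, hw⟩
    obtain ⟨h6, h7⟩ := btwn_spec cs ((mem_rts cs).2 hx) ((mem_rts cs).2 hy) h1 h2 hw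
    exact RGD.le_Sup (S := Q P) ⟨h6, h3 w h6 h7⟩
  exact h5 h4

theorem V2_le : V2 X ≤ VJ cs isCartan X J := by
  rw [VJ_eq R]
  refine RGD.Sup_mono ?_
  rintro x ⟨hx, h⟩
  exact ⟨hx, by show (1 : ℤ) ≤ x 3; have : x 3 = 2 := h; omega⟩

variable (hlr : ∀ a, IsRoot cs isCartan a → bf a a = 4 → LR R a)

include hlr

theorem V2_norm : ∀ g ∈ PJ cs isCartan T X J, ∀ d ∈ V2 X, g * d * g⁻¹ ∈ V2 X := by
  have key0 : ∀ x ∈ rts, 0 ≤ x 3 → ∀ g ∈ X x, ∀ d ∈ V2 X, g * d * g⁻¹ ∈ V2 X := by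
    intro x hx h0 g hg
    have h5 : V2 X ≤ (V2 X).comap (MulAut.conj g).toMonoidHom := by
      refine RGD.Sup_le fun y hy v hv => ?_
      show g * v * g⁻¹ ∈ V2 X
      have hvV : v ∈ V2 X := RGD.le_Sup (S := Q fun x => x 3 = 2) hy hv
      have h : ∀ x ∈ rts, 0 ≤ x 3 → ∀ y ∈ rts, y 3 = 2 → x = y ∨ (bf x x = 4 ∧ 0 ≤ bf y x) ∨
          (x ≠ y ∧ x ≠ -y ∧ ∀ z ∈ rts, bt x y z → z 3 = 2) := by
        decide +kernel
      rcases h x hx h0 y hy.1 hy.2 with rfl | ⟨h1, h2⟩ | ⟨h1, h2, h3⟩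
      · exact mul_mem (mul_mem (RGD.le_Sup (S := Q fun x => x 3 = 2) hy hg) hvV)
          (inv_mem (RGD.le_Sup (S := Q fun x => x 3 = 2) hy hg))
      · have hxr := (mem_rts cs).2 hx
        have h4 := (hlr x hxr h1).comm y ((mem_rts cs).2 hy.1) ((ge_iff cs hxr h1).2 h2) v hv g hg
        have h6 : g * v * g⁻¹ = v := by
          have h7 : g * v = v * g := h4.symm
          rw [h7, mul_inv_cancel_right]
        rwa [h6]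
      · have h4 := comm_of R hx hy.1 h1 h2 h3 hg hv
        have h6 : g * v * g⁻¹ = (g * v * g⁻¹ * v⁻¹) * v := by group
        rw [h6]
        exact mul_mem h4 hvV
    exact fun d hd => h5 hd
  have key : ∀ x ∈ rts, 0 ≤ x 3 → X x ≤ Subgroup.normalizer (V2 X : Set Y) := by
    intro x hx h0 g hg
    rw [Subgroup.mem_normalizer_iff]
    intro d
    refine ⟨key0 x hx h0 g hg d, fun hd => ?_⟩
    have h1 := key0 x hx h0 g⁻¹ (inv_mem hg) _ hd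
    have e : g⁻¹ * (g * d * g⁻¹) * g⁻¹⁻¹ = d := by group
    rwa [e] at h1
  have hP : PJ cs isCartan T X J ≤ Subgroup.normalizer (V2 X : Set Y) := by
    refine sup_le (sup_le (R.T_le_normalizer fun x hx => (mem_rts cs).2 hx.1) ?_) ?_
    · show RGD.Sup X (RootsJ cs isCartan J) ≤ _
      rw [RootsJ_eq]
      refine RGD.Sup_le fun x hx => key x hx.1 ?_
      rw [hx.2]
    · show VJ cs isCartan X J ≤ _
      rw [VJ_eq R]
      refine RGD.Sup_le fun x hx => key x hx.1 ?_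
      have : (1 : ℤ) ≤ x 3 := hx.2
      omega
  intro g hg d hd
  exact (Subgroup.mem_normalizer_iff.1 (hP hg) d).1 hd

omit hlr in
theorem V_norm : ∀ g ∈ PJ cs isCartan T X J, ∀ d ∈ VJ cs isCartan X J, g * d * g⁻¹ ∈ VJ cs isCartan X J := by
  intro g hg d hd
  exact (Subgroup.mem_normalizer_iff.1 (PJ_le_normalizer_VJ R J hg) d).1 hd

theorem V_comm : ∀ a ∈ VJ cs isCartan X J, ∀ b ∈ VJ cs isCartan X J, a * b * a⁻¹ * b⁻¹ ∈ V2 X := by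
  have : Finite W := finiteW cs
  have hn : ∀ a ∈ VJ cs isCartan X J, ∀ d ∈ V2 X, a * d * a⁻¹ ∈ V2 X := fun a ha => V2_norm R hlr a (VJ_le_PJ ha)
  -- generators
  have h0 : ∀ x ∈ rts, 1 ≤ x 3 → ∀ y ∈ rts, 1 ≤ y 3 → x = y ∨ (x ≠ y ∧ x ≠ -y ∧ ∀ z ∈ rts, bt x y z → z 3 = 2) := by
    decide +kernel
  have hab : ∀ y ∈ rts, ∃ z ∈ rts, ∃ w ∈ rts, bf z z = bf w w ∧ 2 * bf z w = - bf z z ∧ z + w = y := by
    decide +kernel
  have hX : ∀ x ∈ rts, 1 ≤ x 3 → X x ≤ VJ cs isCartan X J := by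
    intro x hx h1
    rw [VJ_eq R]
    exact RGD.le_Sup (S := Q fun x => 1 ≤ x 3) ⟨hx, h1⟩
  have key : ∀ y ∈ rts, 1 ≤ y 3 → ∀ b ∈ X y, ∀ a ∈ VJ cs isCartan X J, a * b * a⁻¹ * b⁻¹ ∈ V2 X := by
    intro y hy hy1 b hb
    have h5 : RGD.Sup X (Q (fun x => 1 ≤ x 3)) ≤ commS hn b := by
      refine RGD.Sup_le fun x hx v hv => ⟨hX x hx.1 hx.2 hv, ?_⟩
      rcases h0 x hx.1 hx.2 y hy hy1 with rfl | ⟨h1, h2, h3⟩
      · obtain ⟨z, hz, w, hw, e1, e2, rfl⟩ := hab x hx.1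
        have hA : A2 cs isCartan z w := a2 cs ((mem_rts cs).2 hz) ((mem_rts cs).2 hw) e1 e2
        have h6 := A2.comm_self R hA hv hb
        rw [h6]
        have e : b * v * v⁻¹ * b⁻¹ = 1 := by group
        rw [e]
        exact one_mem _
      · exact comm_of R hx.1 hy h1 h2 h3 hv hb
    intro a ha
    rw [VJ_eq R] at ha
    exact (h5 ha).2
  intro a ha b hb
  have h5 : RGD.Sup X (Q (fun x => 1 ≤ x 3)) ≤ actS hn a := by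
    refine RGD.Sup_le fun x hx v hv => ⟨hX x hx.1 hx.2 hv, key x hx.1 hx.2 v hv a ha⟩
  rw [VJ_eq R] at hb
  exact (h5 hb).2

/-- one step: the factor `m` is pushed to the roots with positive inner product with `β` -/
theorem step {β : Fin 4 → ℤ} (hβ : β ∈ rts) (hβ2 : bf β β = 2) (hβ3 : β 3 = 0)
    {M : Subgroup Y} (h3 : ∀ g ∈ PJ cs isCartan T X J, ∀ m ∈ M, g * m * g⁻¹ ∈ M)
    {P : (Fin 4 → ℤ) → Prop}
    (c0 : ∀ x ∈ rts, ((x 3 = 1 ∧ P x) ∨ x 3 = 2) →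
      (x 3 = 1 ∧ P x ∧ bf β x = -1) ∨ ((x 3 = 1 ∧ P x ∧ bf β x = 1) ∨ x 3 = 2))
    (c1 : ∀ x ∈ rts, (x 3 = 1 ∧ P x ∧ bf β x = -1) → ∀ y ∈ rts, ((y 3 = 1 ∧ P y ∧ bf β y = 1) ∨ y 3 = 2) →
      x = y ∨ (x ≠ -y ∧ ∀ z ∈ rts, bt x y z → ((z 3 = 1 ∧ P z ∧ bf β z = 1) ∨ z 3 = 2)))
    (c2 : ∀ x ∈ rts, (x 3 = 1 ∧ P x ∧ bf β x = -1) → bf x x = 2 ∧ ((x + β) 3 = 1 ∧ P (x + β) ∧ bf β (x + β) = 1))
    (c3 : ∀ y ∈ rts, ((y 3 = 1 ∧ P y ∧ bf β y = 1) ∨ y 3 = 2) → β ≠ y ∧ β ≠ -y ∧ ∀ z ∈ rts, bt β y z → z 3 = 2)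
    {m : Y} (hm : m ∈ M) (hm0 : m ∈ RGD.Sup X (Q (fun x => (x 3 = 1 ∧ P x) ∨ x 3 = 2))) (hm1 : m ∉ V2 X) :
    ∃ m' ∈ M, m' ∈ RGD.Sup X (Q (fun x => (x 3 = 1 ∧ P x ∧ bf β x = 1) ∨ x 3 = 2)) ∧ m' ∉ V2 X := by
  have : Finite W := finiteW cs
  have hn : ∀ a ∈ VJ cs isCartan X J, ∀ d ∈ V2 X, a * d * a⁻¹ ∈ V2 X := fun a ha => V2_norm R hlr a (VJ_le_PJ ha)
  obtain ⟨a, ha, b, hb, rfl⟩ := split R c0 c1 hm0
  have hV2 : V2 X ≤ RGD.Sup X (Q (fun x => (x 3 = 1 ∧ P x ∧ bf β x = 1) ∨ x 3 = 2)) :=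
    RGD.Sup_mono fun x hx => ⟨hx.1, Or.inr hx.2⟩
  by_cases ha2 : a ∈ V2 X
  · exact ⟨a * b, hm, mul_mem (hV2 ha2) hb, hm1⟩
  have hβr := (mem_rts cs).2 hβ
  have haV : a ∈ VJ cs isCartan X J := by
    rw [VJ_eq R]
    exact RGD.Sup_mono (fun x hx => (⟨hx.1, by have := hx.2.1; show (1 : ℤ) ≤ x 3; omega⟩ : x ∈ Q fun x => 1 ≤ x 3)) ha
  have hbV : b ∈ VJ cs isCartan X J := by
    rw [VJ_eq R]
    exact RGD.Sup_mono (fun x hx => (⟨hx.1, by have := hx.2; show (1 : ℤ) ≤ x 3; omega⟩ : x ∈ Q fun x => 1 ≤ x 3)) hb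
  obtain ⟨u, hu, hu1⟩ : ∃ u ∈ X β, u ≠ 1 := by
    have := X_ne_bot R hβr
    rw [Subgroup.ne_bot_iff_exists_ne_one] at this
    obtain ⟨⟨u, hu⟩, h1⟩ := this
    exact ⟨u, hu, fun h2 => h1 (Subtype.ext h2)⟩
  obtain ⟨s, hs, a', ha', b', hb', k, hk, he⟩ := exists_mu R hβr hu hu1
  have huP : u ∈ PJ cs isCartan T X J := X_le R hβ hβ3.ge hu
  have hnβ : -β ∈ rts := (mem_rts cs).1 hβr.neg
  have hkP : k ∈ PJ cs isCartan T X J := by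
    have h4 : 0 ≤ (-β) 3 := by rw [Pi.neg_apply, hβ3]; rfl
    rw [he]
    exact mul_mem (mul_mem (X_le R hnβ h4 ha') huP) (X_le R hnβ h4 hb')
  -- `[u, b] ∈ V2`
  have hub : u * b * u⁻¹ * b⁻¹ ∈ V2 X := by
    have h5 : RGD.Sup X (Q (fun x => (x 3 = 1 ∧ P x ∧ bf β x = 1) ∨ x 3 = 2)) ≤ actS hn u := by
      refine RGD.Sup_le fun y hy v hv => ⟨?_, ?_⟩
      · rw [VJ_eq R]
        exact RGD.le_Sup (S := Q fun x => 1 ≤ x 3) ⟨hy.1, by have := hy.2; show (1 : ℤ) ≤ y 3; omega⟩ hv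
      · obtain ⟨e1, e2, e3⟩ := c3 y hy.1 hy.2
        exact comm_of R hβ hy.1 e1 e2 e3 hu hv
    exact (h5 hb).2
  -- `[u, a] ≡ k a k⁻¹`
  have hua : (u * a * u⁻¹ * a⁻¹) * (k * a * k⁻¹)⁻¹ ∈ V2 X := by
    have h5 : RGD.Sup X (Q (fun x => x 3 = 1 ∧ P x ∧ bf β x = -1)) ≤
        congrS (V_comm R hlr) hn u k (V_norm R u huP) (V_norm R k hkP) := by
      refine RGD.Sup_le fun y hy v hv => ⟨?_, ?_⟩
      · rw [VJ_eq R]
        exact RGD.le_Sup (S := Q fun x => 1 ≤ x 3) ⟨hy.1, by have := hy.2.1; show (1 : ℤ) ≤ y 3; omega⟩ hv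
      · have hA : A2 cs isCartan β y := a2 cs hβr ((mem_rts cs).2 hy.1) (by rw [hβ2, (c2 y hy.1 hy.2).1])
          (by rw [hy.2.2.2, hβ2]; norm_num)
        have h6 := A2.comm_eq R hA hu hv ha' hb' hs hk he
        rw [commutatorElement_def] at h6
        rw [h6, mul_inv_cancel]
        exact one_mem _
    exact (h5 ha).2
  have hka : k * a * k⁻¹ ∈ RGD.Sup X (Q (fun x => (x 3 = 1 ∧ P x ∧ bf β x = 1) ∨ x 3 = 2)) := by
    refine conj_Q R hk ?_ ha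
    intro x hx h5
    left
    have h6 : cpr cs isCartan x β = -1 := by
      rw [cpr_short cs x hβr hβ2, bf_comm]; exact h5.2.2
    rw [hs, h6, neg_one_smul, sub_neg_eq_add]
    exact (c2 x hx h5).2
  have e1 : u * (a * b) * u⁻¹ * (a * b)⁻¹ = ((u * a * u⁻¹ * a⁻¹) * (k * a * k⁻¹)⁻¹) * (k * a * k⁻¹) *
      (a * (u * b * u⁻¹ * b⁻¹) * a⁻¹) := by group
  refine ⟨u * (a * b) * u⁻¹ * (a * b)⁻¹, mul_mem (h3 u huP _ hm) (inv_mem hm), ?_, ?_⟩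
  · rw [e1]
    exact mul_mem (mul_mem (hV2 hua) hka) (hV2 (hn a haV _ hub))
  · intro h5
    rw [e1] at h5
    have h6 := (Subgroup.mul_mem_cancel_right _ (hn a haV _ hub)).1 h5
    have h7 := (Subgroup.mul_mem_cancel_left _ hua).1 h6
    apply ha2
    have h8 := V2_norm R hlr _ (inv_mem hkP) _ h7
    have e2 : k⁻¹ * (k * a * k⁻¹) * k⁻¹⁻¹ = a := by group
    rwa [e2] at h8

omit hlr in
/-- moving a root group inside `M` by a simple reflection -/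
theorem move {M : Subgroup Y} (h3 : ∀ g ∈ PJ cs isCartan T X J, ∀ m ∈ M, g * m * g⁻¹ ∈ M) {y y' : Fin 4 → ℤ}
    (hy' : y' ∈ rts) (i : Fin 4) (hi : i ≠ 3) (e : Cfsg.Agent.Nodes.RGDFold.refl A i y' = y) (h : X y ≤ M) :
    X y' ≤ M := by
  intro w hw
  have hP : n i ∈ PJ cs isCartan T X J := LJ_le_PJ (n_mem_LJ R hi)
  have h4 := R.conj_mem (rp_simple cs R.nsys i) ((mem_rts cs).2 hy') hw
  rw [cj_root, e] at h4
  have h5 := h3 _ (inv_mem hP) _ (h h4)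
  have e2 : (n i)⁻¹ * (n i * w * (n i)⁻¹) * (n i)⁻¹⁻¹ = w := by group
  rwa [e2] at h5

/-- **`V/V2` is irreducible.** -/
theorem irr (M : Subgroup Y) (h1 : V2 X ≤ M) (h2 : M ≤ VJ cs isCartan X J)
    (h3 : ∀ g ∈ PJ cs isCartan T X J, ∀ m ∈ M, g * m * g⁻¹ ∈ M) : M = V2 X ∨ M = VJ cs isCartan X J := by
  have : Finite W := finiteW cs
  by_cases hM : M ≤ V2 X
  · exact Or.inl (le_antisymm hM h1)
  right
  refine le_antisymm h2 ?_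
  obtain ⟨m, hm, hm1⟩ := Set.not_subset.1 hM
  have hm0 : m ∈ RGD.Sup X (Q (fun x => (x 3 = 1 ∧ True) ∨ x 3 = 2)) := by
    have h4 := h2 hm
    rw [VJ_eq R] at h4
    refine RGD.Sup_mono ?_ h4
    rintro x ⟨hx, h5⟩
    have h6 : ∀ x ∈ rts, 1 ≤ x 3 → (x 3 = 1 ∧ True) ∨ x 3 = 2 := by decide +kernel
    exact ⟨hx, h6 x hx h5⟩
  obtain ⟨m', hm', hm0', hm1'⟩ := step R hlr (β := ![0, 0, 1, 0]) (by decide +kernel) (by decide +kernel)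
    (by decide +kernel) h3 (P := fun _ => True) (by decide +kernel) (by decide +kernel) (by decide +kernel)
    (by decide +kernel) hm hm0 hm1
  obtain ⟨m2, hm2, hm02, hm12⟩ := step R hlr (β := ![0, 1, 1, 0]) (by decide +kernel) (by decide +kernel)
    (by decide +kernel) h3 (P := fun x => True ∧ bf ![0, 0, 1, 0] x = 1) (by decide +kernel) (by decide +kernel)
    (by decide +kernel) (by decide +kernel) hm' hm0' hm1'
  obtain ⟨m3, hm3, hm03, hm13⟩ := step R hlr (β := ![1, 1, 1, 0]) (by decide +kernel) (by decide +kernel)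
    (by decide +kernel) h3 (P := fun x => (True ∧ bf ![0, 0, 1, 0] x = 1) ∧ bf ![0, 1, 1, 0] x = 1)
    (by decide +kernel) (by decide +kernel) (by decide +kernel) (by decide +kernel) hm2
    (by simpa only [and_assoc] using hm02) hm12
  obtain ⟨a, ha, d, hd, rfl⟩ := split R (P₁ := fun x => x = ![1, 2, 3, 1]) (P₂ := fun x => x 3 = 2)
    (by decide +kernel) (by decide +kernel) hm03
  rw [Sup_single R (by decide +kernel)] at ha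
  have haM : a ∈ M := (Subgroup.mul_mem_cancel_right _ (h1 hd)).1 hm3
  have ha1 : a ≠ 1 := by
    rintro rfl
    rw [one_mul] at hm13
    exact hm13 hd
  -- to `1221`
  have hn2 : n 2 ∈ PJ cs isCartan T X J := LJ_le_PJ (n_mem_LJ R (by decide))
  have hb := R.conj_mem (rp_simple cs R.nsys 2) ((mem_rts cs).2 (by decide +kernel : (![1, 2, 3, 1] : Fin 4 → ℤ) ∈ rts)) ha
  rw [cj_root, show Cfsg.Agent.Nodes.RGDFold.refl A 2 ![1, 2, 3, 1] = ![1, 2, 2, 1] by decide +kernel] at hb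
  have hbM : n 2 * a * (n 2)⁻¹ ∈ M := h3 _ hn2 _ haM
  have hb1 : n 2 * a * (n 2)⁻¹ ≠ 1 := fun h => ha1 (by simpa [mul_assoc, mul_eq_one_iff_eq_inv] using h)
  have hA : A2 cs isCartan ![1, 2, 2, 1] ![0, 0, 1, 0] := a2 cs ((mem_rts cs).2 (by decide +kernel))
    ((mem_rts cs).2 (by decide +kernel)) (by decide +kernel) (by decide +kernel)
  have h8 : X ![1, 2, 3, 1] ≤ M := by
    intro w hw
    have hw' : w ∈ X (![1, 2, 2, 1] + ![0, 0, 1, 0]) := by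
      rwa [show (![1, 2, 2, 1] + ![0, 0, 1, 0] : Fin 4 → ℤ) = ![1, 2, 3, 1] by decide +kernel]
    obtain ⟨v, hv, e⟩ := A2.comm_surj R hA hb hb1 hw'
    rw [← e, commutatorElement_def]
    have h9 := h3 v (X_le R (by decide +kernel) (by decide +kernel) hv) _ (inv_mem hbM)
    have e2 : n 2 * a * (n 2)⁻¹ * v * (n 2 * a * (n 2)⁻¹)⁻¹ * v⁻¹ =
        (n 2 * a * (n 2)⁻¹) * (v * (n 2 * a * (n 2)⁻¹)⁻¹ * v⁻¹) := by group
    rw [e2]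
    exact mul_mem hbM h9
  have h7 : X ![1, 2, 2, 1] ≤ M := move R h3 (by decide +kernel) 2 (by decide) (by decide +kernel) h8
  have h6 : X ![1, 1, 2, 1] ≤ M := move R h3 (by decide +kernel) 1 (by decide) (by decide +kernel) h7
  have h5 : X ![0, 1, 2, 1] ≤ M := move R h3 (by decide +kernel) 0 (by decide) (by decide +kernel) h6
  have h5' : X ![1, 1, 1, 1] ≤ M := move R h3 (by decide +kernel) 2 (by decide) (by decide +kernel) h6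
  have h4 : X ![0, 1, 1, 1] ≤ M := move R h3 (by decide +kernel) 0 (by decide) (by decide +kernel) h5'
  have h4' : X ![0, 0, 1, 1] ≤ M := move R h3 (by decide +kernel) 1 (by decide) (by decide +kernel) h4
  have h4'' : X ![0, 0, 0, 1] ≤ M := move R h3 (by decide +kernel) 2 (by decide) (by decide +kernel) h4'
  rw [VJ_eq R]
  refine RGD.Sup_le ?_
  rintro x ⟨hx, hx1⟩
  have h9 : ∀ x ∈ rts, 1 ≤ x 3 → x = ![1, 2, 3, 1] ∨ x = ![1, 2, 2, 1] ∨ x = ![1, 1, 2, 1] ∨ x = ![0, 1, 2, 1] ∨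
      x = ![1, 1, 1, 1] ∨ x = ![0, 1, 1, 1] ∨ x = ![0, 0, 1, 1] ∨ x = ![0, 0, 0, 1] ∨ x 3 = 2 := by decide +kernel
  rcases h9 x hx hx1 with rfl | rfl | rfl | rfl | rfl | rfl | rfl | rfl | h
  · exact h8
  · exact h7
  · exact h6
  · exact h5
  · exact h5'
  · exact h4
  · exact h4'
  · exact h4''
  · exact le_trans (RGD.le_Sup (S := Q fun x => x 3 = 2) ⟨hx, h⟩) h1

end

end Cfsg.Agent.H374.QF.Irr
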